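import Cfsg.Agent.H745.Q.CenGen
import Cfsg.Agent.H784.Q.NF
set_option linter.all false

/-! # S5176, section 5.2: `NF.cen_gen` (helper745) -/
set_option autoImplicit false
set_option linter.unusedSectionVars false

open Cfsg Cfsg.FusionSystem Cfsg.Agent.H752 Cfsg.Agent.H784.SF Cfsg.Agent.H784.Q Cfsg.Agent.H745.Q

universe u

namespace Cfsg.Agent.H784.Q

variable {Ω : Type u} [Group Ω] {S : Subgroup Ω} [Finite S] {F : FusionSystem S} {R : Subgroup Ω} {a b z r : Ω} {m : ℕ}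
  {t c d k w : Ω} {β : Ω → Ω}

/-- **5.2**: all maps fixing `z` are generated by conjugations and by the two automorphisms of order three. -/
theorem CaseA8.cen_gen (h : CaseA8 F R a b z r m t c d k w β) (X : Subgroup Ω → (Ω → Ω) → Prop)
    (hcongr : ∀ P f g, X P f → (∀ x ∈ P, g x = f x) → X P g) (hres : ∀ P Q f, X P f → Q ≤ P → X Q f)
    (hcomp : ∀ P Q f g, X P f → X Q g → (∀ x ∈ P, f x ∈ Q) → X P (fun x => g (f x)))
    (hinv : ∀ (P Q : Subgroup Ω) (f g : Ω → Ω), X P f → (∀ y ∈ Q, ∃ x ∈ P, f x = y ∧ g y = x) → X Q g)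
    (hconj : ∀ s ∈ S, X S (fun x => s * x * s⁻¹))
    (hτ : ∀ τ : Ω → Ω, Mp F (Subgroup.closure {r, b} ⊔ centralizerIn S R) τ → τ r = b → τ b = r * b →
      (∀ x ∈ centralizerIn S R, τ x = x) → X (Subgroup.closure {r, b} ⊔ centralizerIn S R) τ)
    (hσ : ∀ σ : Ω → Ω, Mp F (R ⊔ Subgroup.closure {c, w}) σ → σ c = w → σ w = c * w →
      (∀ x ∈ R, σ x = x) → X (R ⊔ Subgroup.closure {c, w}) σ) :
    ∀ P f, Mp F P f → z ∈ P → f z = z → X P f := by
  have hTQ := h.tq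
  have hsit := h.sit
  have hM : Cls S X := ⟨hcongr, hres, hcomp, hinv, hconj⟩
  have hS := hsit.hS
  obtain ⟨C, hCsat, hC⟩ := hsit.exists_cen
  have hσ' : ∀ σ : Ω → Ω, Mp F (Subgroup.closure {c, w} ⊔ R) σ → σ c = w → σ w = c * w →
      (∀ x ∈ R, σ x = x) → X (Subgroup.closure {c, w} ⊔ R) σ := by
    intro σ
    rw [sup_comm]
    exact hσ σ
  have main : ∀ (P : Subgroup Ω) (f : Ω → Ω), Mp C P f → X P f := by
    refine gen_odd C hS hCsat X (fun P f g _ => hcongr P f g) (fun P R f _ => hres P R f)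
      (fun P Q f g _ _ => hcomp P Q f g) (fun P R f g _ h1 _ => hinv P R f g h1)
      (fun P hP s hs => hres S P _ (hconj s hs) hP) ?_
    intro Q hQa hQr hcen D hDext hDX
    have hQS : Q ≤ S := hQr.1
    have hfQ : Finite Q := H802.finite_of_le hQS
    have hzQ : z ∈ Q := hcen (mem_centK.mpr ⟨hsit.zS, fun x hx => (hsit.z_centr x (hQS hx)).symm⟩)
    have hmp : ∀ α ∈ C.autGroup Q, Mp F Q (un α) ∧ un α z = z := fun α hα =>
      (hC Q _ hzQ).1 (Aut.mp hQS hα)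
    refine TQ.main hTQ hS hQa hQr (fun α hα x hx hxR => ?_) D hDext ?_ ?_
    · exact hsit.factC (hmp α hα).1 hzQ (hmp α hα).2 x hxR hx
    · intro α hα hodd hX hQ hinvX hfix
      refine hDX α hα ?_
      have h1 := (hmp α hα).1
      have h2 : OddAut (R ⊓ Q) (un α) := (un_oddAut hodd).res inf_le_right hinvX
      have h3 := hTQ.norm_tau hM hτ hX (h1.res hQ.ge) h2 hfix
      exact hres _ _ _ h3 hQ.le
    · intro α hα hodd hX hQ hinvX hfix
      refine hDX α hα ?_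
      have h1 := (hmp α hα).1
      have h2 : OddAut (centralizerIn S R ⊓ Q) (un α) := (un_oddAut hodd).res inf_le_right hinvX
      have h3 := hTQ.symm.norm_tau hM hσ' hX (h1.res hQ.ge) h2 hfix
      exact hres _ _ _ h3 hQ.le
  exact fun P f hf hz hfz => main P f ((hC P f hz).2 ⟨hf, hfz⟩)

section
variable (h : NF F R a b z r m t c d k w β)
include h

theorem NF.cen_gen (X : Subgroup Ω → (Ω → Ω) → Prop)
    (hcongr : ∀ P f g, X P f → (∀ x ∈ P, g x = f x) → X P g) (hres : ∀ P Q f, X P f → Q ≤ P → X Q f)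
    (hcomp : ∀ P Q f g, X P f → X Q g → (∀ x ∈ P, f x ∈ Q) → X P (fun x => g (f x)))
    (hinv : ∀ (P Q : Subgroup Ω) (f g : Ω → Ω), X P f → (∀ y ∈ Q, ∃ x ∈ P, f x = y ∧ g y = x) → X Q g)
    (hconj : ∀ s ∈ S, X S (fun x => s * x * s⁻¹))
    (hτ : ∀ τ : Ω → Ω, Mp F (Subgroup.closure {r, b} ⊔ centralizerIn S R) τ → τ r = b → τ b = r * b →
      (∀ x ∈ centralizerIn S R, τ x = x) → X (Subgroup.closure {r, b} ⊔ centralizerIn S R) τ)
    (hσ : ∀ σ : Ω → Ω, Mp F (R ⊔ Subgroup.closure {c, w}) σ → σ c = w → σ w = c * w →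
      (∀ x ∈ R, σ x = x) → X (R ⊔ Subgroup.closure {c, w}) σ) :
    ∀ P f, Mp F P f → z ∈ P → f z = z → X P f :=
  h.toCaseA8.cen_gen X hcongr hres hcomp hinv hconj hτ hσ
end

end Cfsg.Agent.H784.Q
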