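import Cfsg.Agent.H745.Q.Cen_mg
import Cfsg.Agent.H757.Sf.FiveTQ
set_option linter.all false

/-! # S5176, section 5.2: generation of `C_F(z)` (helper745) -/
set_option autoImplicit false
set_option linter.unusedSectionVars false
set_option linter.unusedVariables false

open Cfsg Cfsg.FusionSystem Cfsg.Agent.H752 Cfsg.Agent.H784.SF Cfsg.Agent.H784.Q Cfsg.Agent.H802

universe u

namespace Cfsg.Agent.H745.Q

variable {Ω : Type u} [Group Ω]

variable {S : Subgroup Ω} [Finite S] {F : FusionSystem S} {R : Subgroup Ω} {a b z r : Ω} {m : ℕ}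
  {K : Subgroup Ω} {k w c d : Ω}

/-- `⟨r, b⟩` -/
theorem Q8.closure (q : QR R a b z r m) : Q8 R a r (Subgroup.closure {r, b}) := by
  have hr : r ∈ Subgroup.closure ({r, b} : Set Ω) := Subgroup.subset_closure (by simp)
  have hb : b ∈ Subgroup.closure ({r, b} : Set Ω) := Subgroup.subset_closure (by simp)
  have hle : Subgroup.closure ({r, b} : Set Ω) ≤ R := by
    rw [Subgroup.closure_le]
    rintro x (rfl | rfl)
    · exact q.rR
    · exact q.bR
  have hrr := Subgroup.mem_zpowers r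
  have hrA := QR.rA q
  have rle : ∀ x ∈ Subgroup.zpowers r, x ∈ Subgroup.zpowers a := by
    rintro _ ⟨n, rfl⟩
    exact zpow_mem hrA n
  have hzr := QR.zr q
  have bx : ∀ x ∈ Subgroup.zpowers r, b * x = x⁻¹ * b := fun x hx => QR.zpow_inv_comm q q.bR q.bA (rle x hx)
  let E : Subgroup Ω :=
    { carrier := {x | x ∈ Subgroup.zpowers r ∨ ∃ y ∈ Subgroup.zpowers r, x = b * y}
      one_mem' := Or.inl (one_mem _)
      mul_mem' := by
        rintro x y (hx | ⟨x', hx, rfl⟩) (hy | ⟨y', hy, rfl⟩)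
        · exact Or.inl (mul_mem hx hy)
        · right
          refine ⟨x⁻¹ * y', mul_mem (InvMemClass.inv_mem hx) hy, ?_⟩
          rw [← mul_assoc, ← mul_assoc, bx _ (InvMemClass.inv_mem hx), inv_inv]
        · exact Or.inr ⟨x' * y, mul_mem hx hy, by rw [mul_assoc]⟩
        · left
          rw [bx x' hx]
          have h1 : x'⁻¹ * b * (b * y') = x'⁻¹ * (b * b) * y' := by group
          rw [h1, q.bb]
          exact mul_mem (mul_mem (InvMemClass.inv_mem hx) hzr) hy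
      inv_mem' := by
        rintro x (hx | ⟨x', hx, rfl⟩)
        · exact Or.inl (InvMemClass.inv_mem hx)
        · right
          refine ⟨x' * z, mul_mem hx hzr, ?_⟩
          rw [inv_eq_iff_mul_eq_one]
          have h1 : b * x' * (b * (x' * z)) = b * (x' * b * x') * z := by group
          have h2 : x' * b * x' = b := by rw [mul_assoc, bx x' hx, mul_inv_cancel_left]
          rw [h1, h2, q.bb, q.zz] }
  have hE : Subgroup.closure ({r, b} : Set Ω) ≤ E := by
    rw [Subgroup.closure_le]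
    rintro x (rfl | rfl)
    · exact Or.inl hrr
    · exact Or.inr ⟨1, one_mem _, by rw [mul_one]⟩
  refine ⟨hle, hr, fun x hx hxa => ?_, b, hb, q.bA⟩
  rcases hE hx with h1 | ⟨y, hy, rfl⟩
  · exact h1
  · exfalso
    apply q.bA
    have := mul_mem hxa (InvMemClass.inv_mem (rle y hy))
    rwa [mul_inv_cancel_right] at this

/-- the square of an odd order automorphism -/
theorem OddAut.sq {Y : Subgroup Ω} {f : Ω → Ω} (hodd : OddAut Y f) : OddAut Y (fun x => f (f x)) :=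
  ⟨fun x hx y hy => by rw [hodd.mul x hx y hy, hodd.mul _ (hodd.maps x hx) _ (hodd.maps y hy)],
    fun x hx => hodd.maps _ (hodd.maps x hx), by
      obtain ⟨n, hn, h3⟩ := hodd.odd
      refine ⟨n, hn, fun x hx => ?_⟩
      have h4 : ∀ (k : ℕ) (x : Ω), (fun x => f (f x))^[k] x = f^[2 * k] x := by
        intro k
        induction k with
        | zero => intro x; rfl
        | succ k ih =>
          intro x
          rw [Function.iterate_succ_apply, ih, show 2 * (k + 1) = 2 * k + 1 + 1 from by ring,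
            Function.iterate_succ_apply, Function.iterate_succ_apply]
      rw [h4, two_mul, Function.iterate_add_apply, h3 x hx, h3 x hx]⟩

/-- an odd order automorphism of `Q8` fixing a class outside `⟨z⟩` is trivial -/
theorem Q8.fixed_class {Y : Subgroup Ω} (q : QR R a b z r m) (hY : Q8 R a r Y) {f : Ω → Ω} (hodd : OddAut Y f)
    {x : Ω} (hx : x ∈ Y) (hx1 : ¬ Eqz z 1 x) (hfx : Eqz z x (f x)) : ∀ y ∈ Y, f y = y := by
  have hr := hY.rX
  have hzY := Q8.zX q hY
  have hfz := Q8.fz q hY hodd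
  have hzr : z * r = r * z := q.commz q.rR
  have h1 : f x = x := by
    refine hodd.fix_of_zpow ((QR.isPGroup q).to_le hY.le) hx ?_
    rcases hfx with h2 | h2
    · rw [h2]; exact Subgroup.mem_zpowers x
    · rw [h2]
      have h3 : x * x = z := by
        rcases Q8.sq q hY hx with h3 | h3
        · exfalso
          apply hx1
          by_cases h4 : x = 1
          · rw [h4]; exact Eqz.refl 1
          · rw [q.uniq (hY.le hx) h3 h4]
            right; rw [one_mul]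
        · exact h3
      rw [← h3]
      exact mul_mem (Subgroup.mem_zpowers x) (mul_mem (Subgroup.mem_zpowers x) (Subgroup.mem_zpowers x))
  by_cases hxA : x ∈ Subgroup.zpowers a
  · have h2 := hY.cyc x hx hxA
    have h3 : Eqz z r x := by
      rcases QR.mem_r q h2 with h3 | h3
      · exact absurd h3 hx1
      · exact h3
    have h4 : f r = r := by
      rcases h3 with h3 | h3
      · rw [← h3]; exact h1
      · have h5 : f (r * z) = r * z := by rw [← h3]; exact h1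
        rw [hodd.mul _ hr _ hzY, hfz] at h5
        exact mul_right_cancel h5
    exact Q8.fix_of_r q hY hodd (by rw [h4]; exact QR.rA q)
  · by_cases hrA : f r ∈ Subgroup.zpowers a
    · exact Q8.fix_of_r q hY hodd hrA
    · exfalso
      rcases Q8.out_out q hY hx hxA (hodd.maps r hr) hrA with h2 | h2
      · have h3 : f r = f x ∨ f r = f (x * z) := by
          rw [hodd.mul _ hx _ hzY, hfz, h1]
          exact h2
        rcases h3 with h3 | h3
        · have h4 := hodd.inj hr hx h3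
          exact hxA (by rw [← h4]; exact QR.rA q)
        · have h4 := hodd.inj hr (mul_mem hx hzY) h3
          apply hxA
          have h5 : x = r * z := by rw [h4, mul_assoc, q.zz, mul_one]
          rw [h5]
          exact mul_mem (QR.rA q) (QR.zA q)
      · have hxr := mul_mem hx hr
        have h3 : Eqz z (f (x * r)) (f (f r)) := Eqz.map hodd hzY hfz hxr h2
        have h4 : Eqz z r (f (x * r)) := by
          rw [hodd.mul _ hx _ hr, h1]
          have h5 : Eqz z (x * (x * r)) (x * f r) :=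
            Eqz.mul q.zz (q.commz (hY.le hxr)) (Eqz.refl x) h2
          refine Eqz.trans q.zz ?_ h5
          right
          rw [← mul_assoc, q.sq_out (hY.le hx) hxA, hzr]
        have h5 : Eqz z r (f (f r)) := h4.trans q.zz h3
        have h6 := Q8.fix_of_r q hY hodd.sq (by
          show f (f r) ∈ _
          rcases h5 with h5 | h5 <;> rw [h5]
          · exact QR.rA q
          · exact mul_mem (QR.rA q) (QR.zA q))
        obtain ⟨n, ⟨j, rfl⟩, h7⟩ := hodd.odd
        have h8 : ∀ (k : ℕ), f^[2 * k] (f r) = f r := by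
          intro k
          induction k with
          | zero => rfl
          | succ k ih =>
            rw [show 2 * (k + 1) = 2 * k + 1 + 1 from by ring, Function.iterate_succ_apply,
              Function.iterate_succ_apply]
            have h6 : f (f (f r)) = f r := h6 (f r) (hodd.maps r hr)
            rw [h6, ih]
        have h9 := h7 r hr
        change f^[2 * j] (f r) = r at h9
        rw [h8 j] at h9
        exact hrA (by rw [h9]; exact QR.rA q)

/-- class closed under composition, restriction and inverse, containing the conjugations. -/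
structure Cls (S : Subgroup Ω) (M : Subgroup Ω → (Ω → Ω) → Prop) : Prop where
  congr : ∀ P f g, M P f → (∀ x ∈ P, g x = f x) → M P g
  res : ∀ P Q f, M P f → Q ≤ P → M Q f
  comp : ∀ P Q f g, M P f → M Q g → (∀ x ∈ P, f x ∈ Q) → M P (fun x => g (f x))
  inv : ∀ (P Q : Subgroup Ω) (f g : Ω → Ω), M P f → (∀ y ∈ Q, ∃ x ∈ P, f x = y ∧ g y = x) → M Q g
  conj : ∀ s ∈ S, M S (fun x => s * x * s⁻¹)

variable {M : Subgroup Ω → (Ω → Ω) → Prop}

/-- agreement of maps on `Y ⊔ K` -/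
theorem mp_ext_sup {Y K : Subgroup Ω} {g g' : Ω → Ω} (hg : Mp F (Y ⊔ K) g) (hg' : Mp F (Y ⊔ K) g')
    (h1 : ∀ x ∈ Y, g x = g' x) (h2 : ∀ x ∈ K, g x = g' x) : ∀ x ∈ Y ⊔ K, g x = g' x := by
  let E : Subgroup Ω :=
    { carrier := {x | x ∈ Y ⊔ K ∧ g x = g' x}
      one_mem' := ⟨one_mem _, by rw [hg.one, hg'.one]⟩
      mul_mem' := fun {x y} hx hy => ⟨mul_mem hx.1 hy.1, by rw [hg.mul hx.1 hy.1, hg'.mul hx.1 hy.1, hx.2, hy.2]⟩
      inv_mem' := fun {x} hx => ⟨Subgroup.inv_mem _ hx.1, by rw [hg.inv hx.1, hg'.inv hx.1, hx.2]⟩ }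
  have hE : Y ⊔ K ≤ E := sup_le (fun x hx => ⟨Subgroup.mem_sup_left hx, h1 x hx⟩)
    fun x hx => ⟨Subgroup.mem_sup_right hx, h2 x hx⟩
  exact fun x hx => (hE hx).2

theorem mp_maps_sup {Y K Z : Subgroup Ω} {g : Ω → Ω} (hg : Mp F (Y ⊔ K) g)
    (h1 : ∀ x ∈ Y, g x ∈ Z) (h2 : ∀ x ∈ K, g x ∈ Z) : ∀ x ∈ Y ⊔ K, g x ∈ Z := by
  let E : Subgroup Ω :=
    { carrier := {x | x ∈ Y ⊔ K ∧ g x ∈ Z}
      one_mem' := ⟨one_mem _, by rw [hg.one]; exact one_mem _⟩
      mul_mem' := fun {x y} hx hy => ⟨mul_mem hx.1 hy.1, by rw [hg.mul hx.1 hy.1]; exact mul_mem hx.2 hy.2⟩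
      inv_mem' := fun {x} hx => ⟨Subgroup.inv_mem _ hx.1, by rw [hg.inv hx.1]; exact Subgroup.inv_mem _ hx.2⟩ }
  have hE : Y ⊔ K ≤ E := sup_le (fun x hx => ⟨Subgroup.mem_sup_left hx, h1 x hx⟩)
    fun x hx => ⟨Subgroup.mem_sup_right hx, h2 x hx⟩
  exact fun x hx => (hE hx).2

/-- Step b, case `f r ≈ b`, `f b ≈ b r` -/
theorem TQ.norm_b1 (h : TQ S R a b r K k w c z d m) (hM : Cls S M)
    (hτ : ∀ τ : Ω → Ω, Mp F (Subgroup.closure {r, b} ⊔ K) τ → τ r = b → τ b = r * b →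
      (∀ x ∈ K, τ x = x) → M (Subgroup.closure {r, b} ⊔ K) τ)
    {f : Ω → Ω} (hf : Mp F (Subgroup.closure {r, b} ⊔ K) f) (hfix : ∀ x ∈ K, f x = x)
    (hfr : Eqz z b (f r)) (hfb : Eqz z (r * b) (f b)) : M (Subgroup.closure {r, b} ⊔ K) f := by
  have q := h.qR
  have hY := Q8.closure q
  set Y := Subgroup.closure ({r, b} : Set Ω) with hYd
  have hb : b ∈ Y := Subgroup.subset_closure (by simp)
  have hr := hY.rX
  have hYS : Y ⊔ K ≤ S := sup_le (hY.le.trans h.RS) h.KS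
  have hzr : z * r = r * z := q.commz q.rR
  have hzb : z * b = b * z := q.commz q.bR
  have c1 : b * r * b⁻¹ = r * z := by
    rw [QR.zpow_inv_comm q q.bR q.bA (QR.rA q), mul_inv_cancel_right]
    rw [inv_eq_iff_mul_eq_one, ← mul_assoc, q.rr, q.zz]
  have c2 : r * b * r⁻¹ = b * z := by
    have h1 : r * b = b * r⁻¹ := by
      rw [QR.zpow_inv_comm q q.bR q.bA (InvMemClass.inv_mem (QR.rA q)), inv_inv]
    rw [h1, mul_assoc, ← mul_inv_rev, q.rr, q.zinv]
  -- an element `y` of `Y` with `f r = y b y⁻¹`, `f b = y (r b) y⁻¹`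
  obtain ⟨y, hy, e1, e2⟩ : ∃ y ∈ Y, f r = y * b * y⁻¹ ∧ f b = y * (r * b) * y⁻¹ := by
    rcases hfr with h1 | h1 <;> rcases hfb with h2 | h2
    · exact ⟨1, one_mem _, by rw [h1]; group, by rw [h2]; group⟩
    · refine ⟨b, hb, by rw [h1]; group, ?_⟩
      rw [h2]
      calc r * b * z = (r * z) * b := by rw [mul_assoc, ← hzb, ← mul_assoc]
        _ = (b * r * b⁻¹) * b := by rw [c1]
        _ = b * (r * b) * b⁻¹ := by group
    · refine ⟨r * b, mul_mem hr hb, ?_, by rw [h2]; group⟩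
      rw [h1, ← c2]
      group
    · refine ⟨r, hr, by rw [h1, c2], ?_⟩
      rw [h2]
      calc r * b * z = r * (b * z) := by rw [mul_assoc]
        _ = r * (r * b * r⁻¹) := by rw [c2]
        _ = r * (r * b) * r⁻¹ := by group
  have hyS : y ∈ S := hYS (Subgroup.mem_sup_left hy)
  have hyK : ∀ x ∈ K, y * x = x * y := fun x hx => h.comm y (hY.le hy) x hx
  have hfY : ∀ x ∈ Y ⊔ K, f x ∈ S := fun x hx => hf.mem hx
  have hτ0 : Mp F (Y ⊔ K) (fun x => y⁻¹ * f x * y⁻¹⁻¹) :=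
    hf.comp (mp_conj F le_rfl (S.inv_mem hyS)) fun x hx => hf.mem hx
  have h3 := hτ _ hτ0 (by rw [e1]; group) (by rw [e2]; group) fun x hx => by
    rw [hfix x hx, mul_assoc, inv_inv, ← hyK x hx, inv_mul_cancel_left]
  have h4 := hM.comp _ _ _ _ h3 (hM.conj y hyS) fun x hx => hτ0.mem hx
  exact hM.congr _ _ _ h4 fun x hx => by group

theorem mp_iter {Y : Subgroup Ω} {f : Ω → Ω} (hM : Cls S M) (h : M Y f) (hm : ∀ x ∈ Y, f x ∈ Y) (hY : Y ≤ S) (n : ℕ) :
    M Y f^[n] := by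
  induction n with
  | zero =>
    refine hM.congr _ _ _ (hM.res _ _ _ (hM.conj 1 (one_mem S)) hY) fun x hx => ?_
    simp
  | succ n ih =>
    refine hM.congr _ _ _ (hM.comp _ _ _ _ h ih hm) fun x hx => ?_
    rw [Function.iterate_succ_apply]

/-- Step b: `f` of odd order on `Y₀ = ⟨r, b⟩`, trivial on `K`. -/
theorem TQ.norm_b (h : TQ S R a b r K k w c z d m) (hM : Cls S M)
    (hτ : ∀ τ : Ω → Ω, Mp F (Subgroup.closure {r, b} ⊔ K) τ → τ r = b → τ b = r * b →
      (∀ x ∈ K, τ x = x) → M (Subgroup.closure {r, b} ⊔ K) τ)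
    {f : Ω → Ω} (hf : Mp F (Subgroup.closure {r, b} ⊔ K) f) (hodd : OddAut (Subgroup.closure {r, b}) f)
    (hfix : ∀ x ∈ K, f x = x) : M (Subgroup.closure {r, b} ⊔ K) f := by
  have q := h.qR
  have hY := Q8.closure q
  have hb : b ∈ Subgroup.closure ({r, b} : Set Ω) := Subgroup.subset_closure (by simp)
  have hr := hY.rX
  have hYS : Subgroup.closure ({r, b} : Set Ω) ⊔ K ≤ S := sup_le (hY.le.trans h.RS) h.KS
  have hzY := Q8.zX q hY
  have hfz := Q8.fz q hY hodd
  have hzr : z * r = r * z := q.commz q.rR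
  have hzb : z * b = b * z := q.commz q.bR
  by_cases htriv : ∀ x ∈ Subgroup.closure ({r, b} : Set Ω), f x = x
  · have h1 := hM.res S _ _ (hM.conj 1 (one_mem S)) hYS
    refine hM.congr _ _ _ h1 fun x hx => ?_
    rw [mp_ext_sup hf (mp_id F hYS) htriv hfix x hx]
    simp
  have hnf : ∀ x ∈ Subgroup.closure ({r, b} : Set Ω), ¬ Eqz z 1 x → ¬ Eqz z x (f x) := fun x hx hx1 hfx =>
    htriv (Q8.fixed_class q hY hodd hx hx1 hfx)
  have out1 : ∀ x, x ∉ Subgroup.zpowers a → ¬ Eqz z 1 x := by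
    rintro x hx (rfl | rfl)
    · exact hx (one_mem _)
    · exact hx (by rw [one_mul]; exact QR.zA q)
  have r1 : ¬ Eqz z 1 r := by
    rintro (h1 | h1)
    · have := q.rr; rw [h1, one_mul] at this; exact q.z_ne this.symm
    · rw [one_mul] at h1
      have := q.rr; rw [h1, q.zz] at this; exact q.z_ne this.symm
  -- `b r ≈ r b`
  have hbr : Eqz z (r * b) (b * r) := by
    rw [QR.zpow_inv_comm q q.bR q.bA (QR.rA q)]
    exact Eqz.mul q.zz hzb (Q8.inv_eqz q hY hr) (Eqz.refl b)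
  have hbrA : b * r ∉ Subgroup.zpowers a := fun h1 => q.bA (by
    have := mul_mem h1 (InvMemClass.inv_mem (QR.rA q))
    rwa [mul_inv_cancel_right] at this)
  -- `f r ∉ ⟨a⟩`
  have hfrA : f r ∉ Subgroup.zpowers a := fun h1 => htriv (Q8.fix_of_r q hY hodd h1)
  have hfr1 : ∀ x ∈ Subgroup.closure ({r, b} : Set Ω), ¬ Eqz z 1 x → ¬ Eqz z 1 (f x) := by
    intro x hx hx1 hfx
    apply hx1
    rcases hfx with h1 | h1
    · left; exact hodd.inj hx (one_mem _) (by rw [h1, hodd.one])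
    · right; rw [one_mul] at h1 ⊢
      exact hodd.inj hx hzY (by rw [h1, hfz])
  rcases Q8.out_out q hY hb q.bA (hodd.maps r hr) hfrA with h1 | h1
  · -- case 1
    refine h.norm_b1 hM hτ hf hfix h1 ?_
    have h2 : f b ∉ Subgroup.zpowers a := by
      intro h2
      have h3 := hY.cyc _ (hodd.maps b hb) h2
      rcases QR.mem_r q h3 with h4 | h4
      · exact hfr1 b hb (out1 b q.bA) h4
      · -- `f (b r) ≈ r b`
        refine hnf (b * r) (mul_mem hb hr) (out1 _ hbrA) ?_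
        rw [hodd.mul _ hb _ hr]
        exact (hbr.symm q.zz).trans q.zz (Eqz.mul q.zz hzb h4 h1)
    rcases Q8.out_out q hY hb q.bA (hodd.maps b hb) h2 with h3 | h3
    · exact absurd h3 (hnf b hb (out1 b q.bA))
    · exact hbr.trans q.zz h3
  · -- case 2: `f r ≈ b r`, `f b ≈ r`
    have h2 : Eqz z r (f b) := by
      by_cases h2 : f b ∈ Subgroup.zpowers a
      · have h3 := hY.cyc _ (hodd.maps b hb) h2
        rcases QR.mem_r q h3 with h4 | h4
        · exact absurd h4 (hfr1 b hb (out1 b q.bA))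
        · exact h4
      · exfalso
        rcases Q8.out_out q hY hb q.bA (hodd.maps b hb) h2 with h3 | h3
        · exact hnf b hb (out1 b q.bA) h3
        · -- `f r ≈ f b`
          have h4 := (h1.symm q.zz).trans q.zz h3
          rcases h4 with h4 | h4
          · have h5 := hodd.inj hb hr h4
            exact q.bA (by rw [h5]; exact QR.rA q)
          · have h5 := hodd.inj hb (mul_mem hr hzY) (by rw [h4, hodd.mul _ hr _ hzY, hfz])
            exact q.bA (by rw [h5]; exact mul_mem (QR.rA q) (QR.zA q))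
    -- `g = f²`
    have hmap : ∀ x ∈ Subgroup.closure ({r, b} : Set Ω) ⊔ K, f x ∈ Subgroup.closure ({r, b} : Set Ω) ⊔ K :=
      mp_maps_sup hf (fun x hx => Subgroup.mem_sup_left (hodd.maps x hx))
        fun x hx => by rw [hfix x hx]; exact Subgroup.mem_sup_right hx
    have hgr : Eqz z b (f (f r)) := by
      have h3 := Eqz.map hodd hzY hfz (mul_mem hb hr) h1
      rw [hodd.mul _ hb _ hr] at h3
      have h4 : Eqz z (r * (b * r)) (f b * f r) := Eqz.mul q.zz (q.commz (mul_mem q.bR q.rR)) h2 h1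
      refine Eqz.trans q.zz (Or.inl ?_) (h4.trans q.zz h3)
      rw [QR.zpow_inv_comm q q.bR q.bA (QR.rA q), mul_inv_cancel_left]
    have hgb : Eqz z (r * b) (f (f b)) := by
      have h3 := Eqz.map hodd hzY hfz hr h2
      exact hbr.trans q.zz (h1.trans q.zz h3)
    have hg : Mp F (Subgroup.closure ({r, b} : Set Ω) ⊔ K) (fun x => f (f x)) := hf.comp hf hmap
    have h3 := h.norm_b1 hM hτ hg (fun x hx => by rw [hfix x hx, hfix x hx]) hgr hgb
    obtain ⟨n, ⟨j, rfl⟩, h4⟩ := hodd.odd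
    have h5 := mp_iter hM h3 (fun x hx => hmap _ (hmap x hx)) hYS (j + 1)
    have h6 : ∀ (k : ℕ) (x : Ω), (fun x => f (f x))^[k] x = f^[2 * k] x := by
      intro k
      induction k with
      | zero => intro x; rfl
      | succ k ih =>
        intro x
        rw [Function.iterate_succ_apply, ih, show 2 * (k + 1) = 2 * k + 1 + 1 from by ring,
          Function.iterate_succ_apply, Function.iterate_succ_apply]
    refine hM.congr _ _ _ h5 fun x hx => ?_
    rw [h6, show 2 * (j + 1) = 1 + (2 * j + 1) from by ring, Function.iterate_add_apply]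
    have h7 : Mp F (Subgroup.closure ({r, b} : Set Ω) ⊔ K) f^[2 * j + 1] := by
      have : ∀ n : ℕ, Mp F (Subgroup.closure ({r, b} : Set Ω) ⊔ K) f^[n] := by
        intro n
        induction n with
        | zero => exact mp_id F hYS
        | succ n ih =>
          refine (hf.comp ih hmap).congr fun x hx => ?_
          rw [Function.iterate_succ_apply]
      exact this _
    have h8 := mp_ext_sup h7 (mp_id F hYS) h4 (fun x hx => by
      have : ∀ n : ℕ, f^[n] x = x := by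
        intro n
        induction n with
        | zero => rfl
        | succ n ih => rw [Function.iterate_succ_apply, hfix x hx, ih]
      exact this _) x hx
    rw [h8]
    rfl

/-- Step a: `Y` any `Q8` of `R`. -/
theorem TQ.norm_tau (h : TQ S R a b r K k w c z d m) (hM : Cls S M)
    (hτ : ∀ τ : Ω → Ω, Mp F (Subgroup.closure {r, b} ⊔ K) τ → τ r = b → τ b = r * b →
      (∀ x ∈ K, τ x = x) → M (Subgroup.closure {r, b} ⊔ K) τ) {Y : Subgroup Ω} (hY : Q8 R a r Y)
    {f : Ω → Ω} (hf : Mp F (Y ⊔ K) f) (hodd : OddAut Y f)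
    (hfix : ∀ x ∈ K, f x = x) : M (Y ⊔ K) f := by
  have q := h.qR
  have hY0 := Q8.closure q
  obtain ⟨u, hu, huA⟩ := hY.out
  obtain ⟨j, rfl⟩ := q.out_eq (hY.le hu) huA
  -- `s = d^j`
  have hs : d ^ j ∈ S := pow_mem h.dS j
  have hds : ∀ n : ℕ, d ^ n * b * (d ^ n)⁻¹ = b * (a ^ n)⁻¹ := by
    intro n
    induction n with
    | zero => simp
    | succ n ih =>
      have hn : b * (a ^ n)⁻¹ ∉ Subgroup.zpowers a := fun h1 => q.bA (by
        simpa using mul_mem h1 (Subgroup.npow_mem_zpowers a n))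
      have h1 := h.d_out (mul_mem q.bR (InvMemClass.inv_mem (pow_mem q.aR n))) hn
      calc d ^ (n + 1) * b * (d ^ (n + 1))⁻¹ = d * (d ^ n * b * (d ^ n)⁻¹) * d⁻¹ := by rw [pow_succ']; group
        _ = d * (b * (a ^ n)⁻¹) * d⁻¹ := by rw [ih]
        _ = b * (a ^ n)⁻¹ * a⁻¹ := h1
        _ = b * (a ^ (n + 1))⁻¹ := by rw [pow_succ']; group
  have hda : ∀ x ∈ Subgroup.zpowers a, d ^ j * x = x * d ^ j := fun x hx =>
    (show Commute d x from h.d_comm hx).pow_left j
  have hdr : d ^ j * r * (d ^ j)⁻¹ = r := by rw [hda _ (QR.rA q), mul_inv_cancel_right]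
  have hdu : d ^ j * (b * a ^ j) * (d ^ j)⁻¹ = b := by
    have h1 := hda _ (Subgroup.npow_mem_zpowers a j)
    calc d ^ j * (b * a ^ j) * (d ^ j)⁻¹ = d ^ j * b * (d ^ j)⁻¹ * (d ^ j * a ^ j * (d ^ j)⁻¹) := by group
      _ = b := by rw [h1, mul_inv_cancel_right, hds, inv_mul_cancel_right]
  -- `s Y s⁻¹ = Y₀`
  have hto : ∀ x ∈ Y, d ^ j * x * (d ^ j)⁻¹ ∈ Subgroup.closure ({r, b} : Set Ω) := by
    let E : Subgroup Ω := (Subgroup.closure ({r, b} : Set Ω)).comap (MulAut.conj (d ^ j)).toMonoidHom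
    have hE : ∀ x, x ∈ E ↔ d ^ j * x * (d ^ j)⁻¹ ∈ Subgroup.closure ({r, b} : Set Ω) := fun x => Iff.rfl
    have h1 := Q8.induction q hY hu huA E (by rw [hE, hdr]; exact hY0.rX)
      (by rw [hE, hdu]; exact Subgroup.subset_closure (by simp))
    exact fun x hx => (hE x).1 (h1 hx)
  have hfrom : ∀ x ∈ Subgroup.closure ({r, b} : Set Ω), (d ^ j)⁻¹ * x * (d ^ j)⁻¹⁻¹ ∈ Y := by
    let E : Subgroup Ω := Y.comap (MulAut.conj (d ^ j)⁻¹).toMonoidHom
    have hE : ∀ x, x ∈ E ↔ (d ^ j)⁻¹ * x * (d ^ j)⁻¹⁻¹ ∈ Y := fun x => Iff.rfl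
    have h1 : Subgroup.closure ({r, b} : Set Ω) ≤ E := by
      rw [Subgroup.closure_le]
      rintro x (rfl | rfl)
      · show (d ^ j)⁻¹ * x * (d ^ j)⁻¹⁻¹ ∈ Y
        nth_rewrite 1 [← hdr]
        have e : (d ^ j)⁻¹ * (d ^ j * x * (d ^ j)⁻¹) * (d ^ j)⁻¹⁻¹ = x := by group
        rw [e]; exact hY.rX
      · show (d ^ j)⁻¹ * x * (d ^ j)⁻¹⁻¹ ∈ Y
        nth_rewrite 1 [← hdu]
        have e : (d ^ j)⁻¹ * (d ^ j * (x * a ^ j) * (d ^ j)⁻¹) * (d ^ j)⁻¹⁻¹ = x * a ^ j := by group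
        rw [e]; exact hu
    exact fun x hx => (hE x).1 (h1 hx)
  have hKc : ∀ x ∈ K, d ^ j * x * (d ^ j)⁻¹ ∈ K := fun x hx => h.symm.R_conj hs hx
  have hKc' : ∀ x ∈ K, (d ^ j)⁻¹ * x * (d ^ j)⁻¹⁻¹ ∈ K := fun x hx => h.symm.R_conj (S.inv_mem hs) hx
  have hYS : Y ⊔ K ≤ S := sup_le (hY.le.trans h.RS) h.KS
  have hY0S : Subgroup.closure ({r, b} : Set Ω) ⊔ K ≤ S := sup_le (hY0.le.trans h.RS) h.KS
  -- the conjugate map
  have m1 : Mp F (Subgroup.closure ({r, b} : Set Ω) ⊔ K) (fun x => (d ^ j)⁻¹ * x * (d ^ j)⁻¹⁻¹) :=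
    mp_conj F hY0S (S.inv_mem hs)
  have m1' : ∀ x ∈ Subgroup.closure ({r, b} : Set Ω) ⊔ K, (d ^ j)⁻¹ * x * (d ^ j)⁻¹⁻¹ ∈ Y ⊔ K :=
    mp_maps_sup m1 (fun x hx => Subgroup.mem_sup_left (hfrom x hx)) fun x hx => Subgroup.mem_sup_right (hKc' x hx)
  have m2 := m1.comp hf m1'
  have m3 := m2.comp (mp_conj F le_rfl hs) fun x hx => hf.mem (m1' x hx)
  have n1 : Mp F (Y ⊔ K) (fun x => d ^ j * x * (d ^ j)⁻¹) := mp_conj F hYS hs
  have n1' : ∀ x ∈ Y ⊔ K, d ^ j * x * (d ^ j)⁻¹ ∈ Subgroup.closure ({r, b} : Set Ω) ⊔ K :=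
    mp_maps_sup n1 (fun x hx => Subgroup.mem_sup_left (hto x hx)) fun x hx => Subgroup.mem_sup_right (hKc x hx)
  have hodd' : OddAut (Subgroup.closure ({r, b} : Set Ω))
      (fun x => d ^ j * f ((d ^ j)⁻¹ * x * (d ^ j)⁻¹⁻¹) * (d ^ j)⁻¹) := by
    refine ⟨fun x hx y hy => ?_, fun x hx => hto _ (hodd.maps _ (hfrom x hx)), ?_⟩
    · have e : (d ^ j)⁻¹ * (x * y) * (d ^ j)⁻¹⁻¹ = ((d ^ j)⁻¹ * x * (d ^ j)⁻¹⁻¹) * ((d ^ j)⁻¹ * y * (d ^ j)⁻¹⁻¹) := by
        group
      show d ^ j * f ((d ^ j)⁻¹ * (x * y) * (d ^ j)⁻¹⁻¹) * (d ^ j)⁻¹ = _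
      rw [e, hodd.mul _ (hfrom x hx) _ (hfrom y hy)]
      group
    · obtain ⟨n, hn, h1⟩ := hodd.odd
      refine ⟨n, hn, fun x hx => ?_⟩
      have h2 : ∀ n : ℕ, (fun x => d ^ j * f ((d ^ j)⁻¹ * x * (d ^ j)⁻¹⁻¹) * (d ^ j)⁻¹)^[n] x =
          d ^ j * f^[n] ((d ^ j)⁻¹ * x * (d ^ j)⁻¹⁻¹) * (d ^ j)⁻¹ := by
        intro n
        induction n with
        | zero => show x = d ^ j * ((d ^ j)⁻¹ * x * (d ^ j)⁻¹⁻¹) * (d ^ j)⁻¹; group
        | succ n ih =>
          rw [Function.iterate_succ_apply', ih, Function.iterate_succ_apply']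
          have e : ∀ y, (d ^ j)⁻¹ * (d ^ j * y * (d ^ j)⁻¹) * (d ^ j)⁻¹⁻¹ = y := fun y => by group
          rw [e]
      rw [h2, h1 _ (hfrom x hx)]
      group
  have key := h.norm_b hM hτ m3 hodd' fun x hx => by
    rw [hfix _ (hKc' x hx)]; group
  have k1 := hM.comp _ _ _ _ (hM.res _ _ _ (hM.conj _ hs) hYS) key n1'
  have k2 := hM.comp _ _ _ _ k1 (hM.conj _ (S.inv_mem hs)) fun x hx => m3.mem (n1' x hx)
  refine hM.congr _ _ _ k2 fun x hx => ?_
  have e : ∀ y, (d ^ j)⁻¹ * (d ^ j * y * (d ^ j)⁻¹) * (d ^ j)⁻¹⁻¹ = y := fun y => by group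
  rw [e, e]

end Cfsg.Agent.H745.Q
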