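import Cfsg.Agent.H752.PPow
import Cfsg.Agent.H802.FusEss
import Cfsg.Agent.H757.Sf.Basic
set_option linter.all false

-- part: H745/Q/Gen
section
/-! # Generation of a saturated fusion system by odd order automorphisms that do not extend (helper745) -/
set_option autoImplicit false

open Cfsg Cfsg.FusionSystem Cfsg.Agent.H752 Cfsg.Agent.H802

universe u

namespace Cfsg.Agent.H745.Q

variable {Ω : Type u} [Group Ω] {S : Subgroup Ω}

/-- If `T ∩ Q` is invariant under `Aut_F(Q)`, the automorphisms `β` with `x⁻¹ β(x) ∈ T` form a `p`-group, and some `g ∈ N_S(Q) ∖ Q`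
induces such an automorphism, then all of `Aut_F(Q)` extends to larger subgroups. -/
theorem extends_of_normal [Finite S] {F : FusionSystem S} {p : ℕ} [Fact p.Prime] {Q T : Subgroup Ω}
    (hQa : F.IsFullyAutomized p Q) (hQr : F.IsReceptive Q)
    (hT : ∀ α ∈ F.autGroup Q, ∀ x : Q, (x : Ω) ∈ T → ((α x : Q) : Ω) ∈ T)
    (h2 : ∀ β ∈ F.autGroup Q, Nat.Coprime (orderOf β) p → (∀ x : Q, (x : Ω)⁻¹ * (β x : Q) ∈ T) → β = 1)
    {g : Ω} (hg : g ∈ S) (hgn : g ∈ Subgroup.normalizer (Q : Set Ω)) (hgQ : g ∉ Q)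
    (hgT : ∀ x ∈ Q, x⁻¹ * (g * x * g⁻¹) ∈ T) {α : MulAut Q} (hα : α ∈ F.autGroup Q) : Extends F Q α := by
  have hQS := hQr.1
  have hfQ : Finite Q := finite_of_le hQS
  have hfA : Finite (F.autGroup Q) := inferInstance
  let B : Subgroup (F.autGroup Q) :=
    { carrier := {β | ∀ x : Q, (x : Ω)⁻¹ * ((β : MulAut Q) x : Q) ∈ T}
      one_mem' := fun x => by
        show (x : Ω)⁻¹ * ((1 : MulAut Q) x : Q) ∈ T
        simp [one_mem]
      mul_mem' := by
        intro β γ hβ hγ x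
        show (x : Ω)⁻¹ * (((β : MulAut Q) * (γ : MulAut Q)) x : Q) ∈ T
        rw [MulAut.mul_apply]
        have h1 := hγ x
        have h3 := hβ ((γ : MulAut Q) x)
        have h4 := mul_mem h1 h3
        simpa [mul_assoc] using h4
      inv_mem' := by
        intro β hβ x
        show (x : Ω)⁻¹ * ((β : MulAut Q)⁻¹ x : Q) ∈ T
        have h1 := hβ ((β : MulAut Q)⁻¹ x)
        rw [MulAut.apply_inv_self] at h1
        have h3 := inv_mem h1
        simpa using h3 }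
  have hB : ∀ β : F.autGroup Q, β ∈ B ↔ ∀ x : Q, (x : Ω)⁻¹ * ((β : MulAut Q) x : Q) ∈ T := fun β => Iff.rfl
  have hBn : B.Normal := by
    refine ⟨fun β hβ γ => ?_⟩
    intro x
    show (x : Ω)⁻¹ * (((γ : MulAut Q) * (β : MulAut Q) * (γ : MulAut Q)⁻¹) x : Q) ∈ T
    rw [MulAut.mul_apply, MulAut.mul_apply]
    set y := (γ : MulAut Q)⁻¹ x with hy
    have h3 : x = (γ : MulAut Q) y := by rw [hy, MulAut.apply_inv_self]
    have h4 := hT _ γ.2 (y⁻¹ * (β : MulAut Q) y) (hβ y)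
    rw [map_mul, map_inv, ← h3] at h4
    exact h4
  have hBp : IsPGroup p B := by
    intro β
    obtain ⟨i, j, hij, ⟨k, hk⟩, hj⟩ := TwoFusion.PResidual.exists_pPart_mul_pPrimePart p (β : F.autGroup Q)
    have h3 : (β : F.autGroup Q) ^ j ∈ B := zpow_mem β.2 j
    have h4 : (((β : F.autGroup Q) ^ j : F.autGroup Q) : MulAut Q) = 1 :=
      h2 _ ((β : F.autGroup Q) ^ j).2 (by rw [Subgroup.orderOf_coe]; exact hj) ((hB _).1 h3)
    have h5 : (β : F.autGroup Q) ^ j = 1 := Subtype.ext h4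
    rw [h5, mul_one] at hij
    refine ⟨k, Subtype.ext ?_⟩
    rw [Subgroup.coe_pow, Subgroup.coe_one, hij, ← hk, pow_orderOf_eq_one]
  obtain ⟨P, hP⟩ := hQa.2
  have hBP : B ≤ (P : Subgroup (F.autGroup Q)) := hBp.le_sylow_of_normal P
  obtain ⟨γ, hγ⟩ := exists_conjAut hgn
  have hγA : γ ∈ F.autGroup Q := autInducedBy_le_autGroup F hQS ((mem_autInducedBy_iff S Q γ).2 ⟨g, hg, hγ⟩)
  have hγB : (⟨γ, hγA⟩ : F.autGroup Q) ∈ B := fun x => by
    show (x : Ω)⁻¹ * (γ x : Q) ∈ T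
    rw [hγ x]
    exact hgT x x.2
  have h3 := hBP (hBn.conj_mem _ hγB ⟨α, hα⟩)
  rw [hP, Subgroup.mem_subgroupOf] at h3
  exact extends_of_conj_mem hQr hα hg hgQ hγ h3

/-- **Generation**: a class of maps closed under restriction, composition and inverse, containing the conjugations, contains all maps if,
for each centric, fully automized and receptive `Q`, each subgroup `D` of `Aut(Q)` containing all extendable elements of
`Aut_F(Q)` and the elements of the class contains the elements of `Aut_F(Q)` of order prime to `p`. -/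
theorem gen_odd (F : FusionSystem S) [Finite S] {p : ℕ} [Fact p.Prime] (hS : IsPGroup p S)
    (hF : F.IsSaturated p) (M : Subgroup Ω → (Ω → Ω) → Prop)
    (h_congr : ∀ (P : Subgroup Ω) (f g : Ω → Ω), Mp F P f → M P f → (∀ x ∈ P, g x = f x) → M P g)
    (h_res : ∀ (P R : Subgroup Ω) (f : Ω → Ω), Mp F P f → M P f → R ≤ P → M R f)
    (h_comp : ∀ (P Q : Subgroup Ω) (f g : Ω → Ω), Mp F P f → Mp F Q g → M P f → M Q g →
      (∀ x ∈ P, f x ∈ Q) → M P (fun x => g (f x)))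
    (h_inv : ∀ (P R : Subgroup Ω) (f g : Ω → Ω), Mp F P f → M P f → Mp F R g →
      (∀ y ∈ R, ∃ x ∈ P, f x = y ∧ g y = x) → M R g)
    (h_conj : ∀ P : Subgroup Ω, P ≤ S → ∀ s ∈ S, M P (fun x => s * x * s⁻¹))
    (h_odd : ∀ Q : Subgroup Ω, F.IsFullyAutomized p Q → F.IsReceptive Q → centralizerIn S Q ≤ Q →
      ∀ D : Subgroup (MulAut Q), (∀ α ∈ F.autGroup Q, Extends F Q α → α ∈ D) →
      (∀ α ∈ F.autGroup Q, M Q (ex fun x => ((α x : Q) : Ω)) → α ∈ D) →
      ∀ α ∈ F.autGroup Q, Nat.Coprime (orderOf α) p → α ∈ D) :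
    ∀ (P : Subgroup Ω) (f : Ω → Ω), Mp F P f → M P f := by
  refine mp_induction F hS hF M h_congr h_res h_comp h_inv fun Q hQa hQr IH α hα f hf => ?_
  have hQS : Q ≤ S := hQa.1
  have hfQ : Finite Q := H802.finite_of_le hQS
  have hmp : ∀ β ∈ F.autGroup Q, Mp F Q (ex fun x => ((β x : Q) : Ω)) := fun β hβ =>
    (mp_iff_autGroup hQS β).1 hβ
  have hmul : ∀ β ∈ F.autGroup Q, ∀ γ ∈ F.autGroup Q, M Q (ex fun x => ((β x : Q) : Ω)) →
      M Q (ex fun x => ((γ x : Q) : Ω)) → M Q (ex fun x => (((β * γ) x : Q) : Ω)) := by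
    intro β hβ γ hγ h1 h2
    have h3 : ∀ x ∈ Q, ex (fun x => ((γ x : Q) : Ω)) x ∈ Q := fun x hx => by
      rw [ex_apply _ hx]
      exact (γ _).2
    refine h_congr Q _ _ ((hmp γ hγ).comp (hmp β hβ) h3)
      (h_comp Q Q _ _ (hmp γ hγ) (hmp β hβ) h2 h1 h3) fun x hx => ?_
    rw [ex_apply _ hx, ex_apply (fun x => ((γ x : Q) : Ω)) hx, ex_apply _ (γ ⟨x, hx⟩).2]
    rfl
  have hinv : ∀ β ∈ F.autGroup Q, M Q (ex fun x => ((β x : Q) : Ω)) →
      M Q (ex fun x => ((β⁻¹ x : Q) : Ω)) := by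
    intro β hβ h1
    refine h_inv Q Q _ _ (hmp β hβ) h1 (hmp β⁻¹ (inv_mem hβ)) fun y hy => ?_
    refine ⟨((β⁻¹ ⟨y, hy⟩ : Q) : Ω), (β⁻¹ ⟨y, hy⟩).2, ?_, ex_apply _ hy⟩
    rw [ex_apply _ (β⁻¹ ⟨y, hy⟩).2]
    show ((β (β⁻¹ ⟨y, hy⟩) : Q) : Ω) = y
    rw [MulAut.apply_inv_self]
  have hone : M Q (ex fun x => (((1 : MulAut Q) x : Q) : Ω)) := by
    refine h_congr Q _ _ (mp_conj F hQS (one_mem S)) (h_conj Q hQS 1 (one_mem S)) fun x hx => ?_
    rw [ex_apply _ hx]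
    simp
  -- the subgroup of automorphisms in the class
  let D : Subgroup (MulAut Q) :=
    { carrier := {β | β ∈ F.autGroup Q ∧ M Q (ex fun x => ((β x : Q) : Ω))}
      one_mem' := ⟨one_mem _, hone⟩
      mul_mem' := fun {β γ} hβ hγ => ⟨mul_mem hβ.1 hγ.1, hmul β hβ.1 γ hγ.1 hβ.2 hγ.2⟩
      inv_mem' := fun {β} hβ => ⟨inv_mem hβ.1, hinv β hβ.1 hβ.2⟩ }
  have hext : ∀ β ∈ F.autGroup Q, Extends F Q β → M Q (ex fun x => ((β x : Q) : Ω)) := by
    rintro β hβ ⟨R, hQR, hlt, ψ, hψ, h1⟩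
    have h2 := h_res R Q _ (mp_ex hψ) (IH R _ (mp_ex hψ) hlt) hQR
    refine h_congr Q _ _ ((mp_ex hψ).res hQR) h2 fun x hx => ?_
    rw [ex_apply _ hx, ex_apply _ (hQR hx)]
    exact (h1 ⟨x, hx⟩).symm
  have hprime : ∀ β ∈ F.autGroup Q, Nat.Coprime (orderOf β) p → M Q (ex fun x => ((β x : Q) : Ω)) := by
    intro β hβ hc
    by_cases hcen : F.IsCentric Q
    · exact (h_odd Q hQa hQr (hcen.2 Q (isConj_refl F hQS)) D (fun γ hγ he => ⟨hγ, hext γ hγ he⟩)
        (fun γ hγ hm => ⟨hγ, hm⟩) β hβ hc).2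
    · obtain ⟨R, hQR, hcard, ψ, hψ, he⟩ := exists_extension_of_not_centric hQr hcen hβ
      exact hext β hβ ⟨R, hQR, hcard, ψ, hψ, fun x => he x x.2 _⟩
  have hres : ∀ β : F.autGroup Q, β ∈ pResidual p (F.autGroup Q) →
      M Q (ex fun x => (((β : MulAut Q) x : Q) : Ω)) := by
    intro β hβ
    refine Subgroup.closure_induction (p := fun (β : F.autGroup Q) _ =>
      M Q (ex fun x => (((β : MulAut Q) x : Q) : Ω))) ?_ ?_ ?_ ?_ hβ
    · intro γ hγ
      have hγ' : Nat.Coprime (orderOf (γ : MulAut Q)) p := by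
        rw [Subgroup.orderOf_coe]
        exact hγ
      exact hprime γ γ.2 hγ'
    · exact hone
    · intro β γ _ _ h1 h2
      exact hmul β β.2 γ γ.2 h1 h2
    · intro β _ h1
      exact hinv β β.2 h1
  obtain ⟨B, hB⟩ := hQa.2
  have hfA : Finite (F.autGroup Q) := inferInstance
  obtain ⟨r, hr, b, hb, hrb⟩ := exists_residual_mul B ⟨α, hα⟩
  rw [hB, Subgroup.mem_subgroupOf, H802.mem_autInducedBy_iff] at hb
  obtain ⟨s, hs, hsb⟩ := hb
  have hMb : M Q (ex fun x => (((b : MulAut Q) x : Q) : Ω)) := by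
    refine h_congr Q _ _ (mp_conj F hQS hs) (h_conj Q hQS s hs) fun x hx => ?_
    rw [ex_apply _ hx, hsb]
  have hM := hmul r r.2 b b.2 (hres r hr) hMb
  refine h_congr Q _ _ (hmp _ (mul_mem r.2 b.2)) hM fun x hx => ?_
  rw [ex_apply _ hx, hf x hx]
  have h1 : α = (r : MulAut Q) * b := congrArg Subtype.val hrb
  rw [h1]

end Cfsg.Agent.H745.Q
end

-- part: H757/Sf/Types
section
/-! # S5176, section 1: fact (H), the two types (plan: tools/plans/S5176.md) -/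
set_option autoImplicit false
set_option linter.unusedSectionVars false

open Cfsg Cfsg.FusionSystem Cfsg.Agent.H752 Cfsg.Agent.H784.SF Cfsg.Agent.H784.Q

universe u

namespace Cfsg.Agent.H784.Q

variable {Ω : Type u} [Group Ω] {S : Subgroup Ω} [Finite S] {F : FusionSystem S} {R : Subgroup Ω} {a b z r : Ω} {m : ℕ}

namespace QR

variable (q : QR R a b z r m)
include q

theorem pow_two_pow {x : Ω} (hx : x ∈ R) : x ^ 2 ^ m = 1 := by
  by_cases hA : x ∈ Subgroup.zpowers a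
  · obtain ⟨n, rfl⟩ := hA
    change (a ^ n) ^ 2 ^ m = 1
    rw [← zpow_natCast, ← zpow_mul, mul_comm, zpow_mul, zpow_natCast, q.a_two_pow, one_zpow]
  · have h1 : 2 ^ m = 2 * (2 * 2 ^ (m - 2)) := by
      rw [← pow_succ', ← pow_succ']; congr 1; have := q.m3; omega
    rw [h1, pow_mul, pow_mul, pow_two x, q.sq_out hx hA, pow_two, q.zz, one_pow]

/-- every nontrivial element of `R` has the power `z`. -/
theorem exists_pow_z {x : Ω} (hx : x ∈ R) (h1 : x ≠ 1) : ∃ n : ℕ, x ^ n = z := by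
  classical
  have hex : ∃ k, x ^ 2 ^ k = 1 := ⟨m, q.pow_two_pow hx⟩
  have hk := Nat.find_spec hex
  have hpos : Nat.find hex ≠ 0 := by
    intro h0
    rw [h0, pow_zero, pow_one] at hk
    exact h1 hk
  have hlt : ¬ x ^ 2 ^ (Nat.find hex - 1) = 1 := Nat.find_min hex (by omega)
  refine ⟨2 ^ (Nat.find hex - 1), q.uniq (pow_mem hx _) ?_ hlt⟩
  rw [← pow_add, ← two_mul, ← pow_succ', Nat.sub_add_cancel (by omega)]
  exact hk

theorem a_four : a ^ 4 ≠ 1 := by
  intro h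
  have h1 := orderOf_dvd_of_pow_eq_one h
  rw [q.oa, show (4 : ℕ) = 2 ^ 2 from rfl] at h1
  have h2 := (Nat.pow_dvd_pow_iff_le_right (by norm_num : 1 < 2)).mp h1
  have := q.m3
  omega

theorem comm_of {s : Ω} (ha : s * a = a * s) (hb : s * b = b * s) {x : Ω} (hx : x ∈ R) : s * x = x * s := by
  have h1 : ∀ i : ℕ, s * a ^ i = a ^ i * s := fun i => (Commute.pow_right (show Commute s a from ha) i)
  obtain ⟨i, rfl | rfl⟩ := q.gen x hx
  · exact h1 i
  · rw [← mul_assoc, hb, mul_assoc, h1, mul_assoc]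

end QR

variable (h : Sit F R a b z r m)
include h

theorem Sit.A_norm {s : Ω} (hs : s ∈ S) : ∃ i : ℕ, s * a * s⁻¹ = a ^ i := by
  obtain ⟨i, hi | hi⟩ := h.qr.gen _ (h.Rn s hs a h.qr.aR)
  · exact ⟨i, hi⟩
  · exfalso
    have h1 : b * a ^ i * (b * a ^ i) = z := h.qr.sq_out (by rw [← hi]; exact h.Rn s hs a h.qr.aR) (h.qr.bA' i)
    have h2 : s * a ^ 4 * s⁻¹ = 1 := by
      have h3 : s * a ^ 4 * s⁻¹ = s * a * s⁻¹ * (s * a * s⁻¹) * (s * a * s⁻¹ * (s * a * s⁻¹)) := by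
        simp only [pow_succ, pow_zero]; group
      rw [h3, hi, h1, h.qr.zz]
    apply h.qr.a_four
    have h4 : a ^ 4 = s⁻¹ * (s * a ^ 4 * s⁻¹) * s := by group
    rw [h4, h2]; group

theorem conj_zpow' {s : Ω} {i : ℕ} (hi : s * a * s⁻¹ = a ^ i) (n : ℤ) : s * a ^ n * s⁻¹ = a ^ (i * n) := by
  clear h
  rw [zpow_mul, zpow_natCast, ← hi, conj_zpow]

theorem conj_pow' {s : Ω} {i : ℕ} (hi : s * a * s⁻¹ = a ^ i) (n : ℕ) : s * a ^ n * s⁻¹ = a ^ (i * n) := by
  clear h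
  rw [pow_mul, ← hi, conj_pow]

theorem Sit.odd_norm {s : Ω} (hs : s ∈ S) {i : ℕ} (hi : s * a * s⁻¹ = a ^ i) : Odd i := by
  by_contra h1
  rw [Nat.not_odd_iff_even] at h1
  obtain ⟨k, rfl⟩ := h1
  have h2 : s * z * s⁻¹ = z := by rw [h.z_centr s hs]; group
  rw [h.qr.hz, conj_pow' h hi] at h2
  rw [← two_mul, mul_comm 2 k, mul_assoc, ← pow_succ', Nat.sub_add_cancel (by have := h.qr.m3; omega), mul_comm, pow_mul,
    h.qr.a_two_pow, one_pow, ← h.qr.hz] at h2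
  exact h.qr.z_ne h2.symm

theorem Sit.t_not_R {t : Ω} (ht : CE F z t) (hne : t ≠ z) : t ∉ R := fun h1 =>
  hne (h.qr.uniq h1 (h.tt ht) (h.t_ne ht))

/-- `D` and `β(D)` commute. -/
theorem Sit.D_comm {t : Ω} {β : Ω → Ω} (v : VD F z t β) {x y : Ω} (hx : x ∈ R) (hxt : x ∈ CS S t) (hy : y ∈ R)
    (hyt : y ∈ CS S t) : x * β y = β y * x := by
  obtain ⟨x', hx', rfl⟩ := v.surj x hxt
  have hmp := v.mp
  have hβy := v.maps y hyt
  by_contra hne
  have hc1 : β x' * β y * (β x')⁻¹ * (β y)⁻¹ ∈ R := by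
    have h1 : β x' * β y * (β x')⁻¹ * (β y)⁻¹ = β x' * (β y * (β x')⁻¹ * (β y)⁻¹) := by group
    rw [h1]
    exact mul_mem hx (h.Rn _ hβy.1 _ (inv_mem hx))
  have hw1 : x' * y * x'⁻¹ * y⁻¹ ∈ R := mul_mem (h.Rn _ hx'.1 _ hy) (inv_mem hy)
  have hwC : x' * y * x'⁻¹ * y⁻¹ ∈ CS S t := mul_mem (mul_mem (mul_mem hx' hyt) (inv_mem hx')) (inv_mem hyt)
  have hβw : β (x' * y * x'⁻¹ * y⁻¹) = β x' * β y * (β x')⁻¹ * (β y)⁻¹ := by
    rw [hmp.mul (mul_mem (mul_mem hx' hyt) (inv_mem hx')) (inv_mem hyt), hmp.mul (mul_mem hx' hyt) (inv_mem hx'),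
      hmp.mul hx' hyt, hmp.inv hx', hmp.inv hyt]
  have hwne : x' * y * x'⁻¹ * y⁻¹ ≠ 1 := by
    intro h1
    rw [h1, hmp.one] at hβw
    apply hne
    have h2 : β x' * β y = β x' * β y * (β x')⁻¹ * (β y)⁻¹ * (β y * β x') := by group
    rw [h2, ← hβw, one_mul]
  obtain ⟨n, hn⟩ := h.qr.exists_pow_z hw1 hwne
  apply h.t_not_R v.cj v.ne
  rw [← v.βz, ← hn, hmp.pow hwC, hβw]
  exact pow_mem hc1 n

/-- `C_R(t) ≤ ⟨a⟩`. -/
theorem Sit.D_le {t : Ω} {β : Ω → Ω} (v : VD F z t β) {x : Ω} (hx : x ∈ R) (hxt : t * x = x * t) :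
    x ∈ Subgroup.zpowers a := by
  by_contra hxA
  have q := h.qr
  have htS : t ∈ S := ce_right v.cj
  have hmp := v.mp
  have hxC : x ∈ CS S t := mem_cent.mpr ⟨h.RS hx, hxt.symm⟩
  have hβx := v.maps x hxC
  -- `β x` and `x` commute
  have hc1 := h.D_comm v hx hxC hx hxC
  have hyy : β x * β x = t := by rw [← hmp.mul hxC hxC, q.sq_out hx hxA, v.βz]
  obtain ⟨k, hk⟩ := h.A_norm hβx.1
  have hkodd := h.odd_norm hβx.1 hk
  -- `t` centralizes `r`
  have hta : t * a * t⁻¹ = a ^ (k * k) := by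
    have h1 : t * a * t⁻¹ = β x * (β x * a * (β x)⁻¹) * (β x)⁻¹ := by rw [← hyy]; group
    rw [h1, hk, conj_pow' h hk]
  have hr4 : r ^ 4 = 1 := by
    have : r ^ 4 = r * r * (r * r) := by simp only [pow_succ, pow_zero]; group
    rw [this, q.r_four]
  have htr : t * r = r * t := by
    have h1 : t * r * t⁻¹ = r := by
      rw [q.hr, conj_pow' h hta, mul_comm, pow_mul, ← q.hr]
      obtain ⟨l, rfl⟩ := hkodd
      have h2 : (2 * l + 1) * (2 * l + 1) = 4 * (l * l + l) + 1 := by ring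
      rw [h2, pow_succ, pow_mul, hr4, one_pow, one_mul]
    exact mul_inv_eq_iff_eq_mul.mp h1
  have hrC : r ∈ CS S t := mem_cent.mpr ⟨h.RS q.rR, htr.symm⟩
  have hβr := v.maps r hrC
  obtain ⟨l, hl⟩ := h.A_norm hβr.1
  have hlodd := h.odd_norm hβr.1 hl
  -- `t = [β r, β x]`
  have hxr : x * r * x⁻¹ = r⁻¹ := by
    have h1 := q.out_inv hx hxA ((2 ^ (m - 2) : ℕ) : ℤ)
    rw [zpow_natCast, ← q.hr] at h1
    rw [h1]; group
  have htc : β r * β x = t * (β x * β r) := by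
    have h1 : r * x = z * (x * r) := by
      have h2 : r * x = r * r * (r⁻¹ * x) := by group
      have h3 : r⁻¹ * x = x * r := by rw [← hxr]; group
      rw [h2, h3, q.rr]
    have hzC : z ∈ CS S t := mem_cent.mpr ⟨h.zS, (h.z_centr t htS).symm⟩
    rw [← hmp.mul hrC hxC, h1, hmp.mul hzC (mul_mem hxC hrC), v.βz, hmp.mul hxC hrC]
  have e1 : β r * β x * a * (β r * β x)⁻¹ = a ^ (l * k) := by
    have h1 : β r * β x * a * (β r * β x)⁻¹ = β r * (β x * a * (β x)⁻¹) * (β r)⁻¹ := by group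
    rw [h1, hk, conj_pow' h hl]
  have e2 : β x * β r * a * (β x * β r)⁻¹ = a ^ (l * k) := by
    have h1 : β x * β r * a * (β x * β r)⁻¹ = β x * (β r * a * (β r)⁻¹) * (β x)⁻¹ := by group
    rw [h1, hl, conj_pow' h hk, mul_comm]
  have e3 : t * a ^ (l * k) * t⁻¹ = a ^ (l * k) := by
    have h1 : t * (β x * β r * a * (β x * β r)⁻¹) * t⁻¹ = t * (β x * β r) * a * (t * (β x * β r))⁻¹ := by group
    rw [e2, ← htc, e1] at h1
    exact h1
  -- `t` centralizes `a`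
  have hcop : Nat.Coprime (l * k) (orderOf a) := by
    rw [q.oa]
    exact Nat.Coprime.pow_right _ (Nat.Coprime.symm ((hlodd.mul hkodd).coprime_two_left))
  have hta' : t * a = a * t := by
    obtain ⟨n, hn⟩ := exists_pow_eq_self_of_coprime hcop
    have h1 : Commute t (a ^ (l * k)) := mul_inv_eq_iff_eq_mul.mp e3
    have h2 := h1.pow_right n
    rw [hn] at h2
    exact h2
  -- so `t` centralizes `R`
  apply h.not_K v.cj v.ne
  refine mem_centK.mpr ⟨htS, fun w hw => q.comm_of hta' ?_ hw⟩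
  obtain ⟨i, hi⟩ := q.out_eq hx hxA
  have hb : b = x * (a ^ i)⁻¹ := by rw [hi]; group
  have h1 : Commute t (x * (a ^ i)⁻¹) :=
    (show Commute t x from hxt).mul_right ((show Commute t a from hta').pow_right i).inv_right
  rw [← hb] at h1
  exact h1

theorem Sit.type_cases {t : Ω} {β : Ω → Ω} (v : VD F z t β) : TyA S R a z r t ∨ TySD R a b z t := by
  have q := h.qr
  have htS : t ∈ S := ce_right v.cj
  have htt := h.tt v.cj
  have htinv : t⁻¹ = t := inv_eq_of_mul_eq_one_right htt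
  obtain ⟨i, hi⟩ := h.A_norm htS
  have hodd := h.odd_norm htS hi
  obtain ⟨j, hj⟩ : ∃ j : ℕ, t * b * t⁻¹ = b * a ^ j := by
    refine q.out_eq (h.Rn t htS b q.bR) fun hA => q.bA ?_
    obtain ⟨n, hn⟩ := hA
    have h1 : t * a ^ n * t⁻¹ = b := by
      change a ^ n = t * b * t⁻¹ at hn
      rw [hn]
      have h2 : t * (t * b * t⁻¹) * t⁻¹ = t * t * b * (t * t)⁻¹ := by group
      rw [h2, htt]; group
    rw [conj_zpow' h hi] at h1
    exact ⟨_, h1⟩
  have hrel : a ^ (j * (1 + i)) = 1 := by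
    have h1 : t * (b * a ^ j) * t⁻¹ = b := by
      rw [← hj]
      have h2 : t * (t * b * t⁻¹) * t⁻¹ = t * t * b * (t * t)⁻¹ := by group
      rw [h2, htt]; group
    have h2 : t * (b * a ^ j) * t⁻¹ = t * b * t⁻¹ * (t * a ^ j * t⁻¹) := by group
    rw [h2, hj, conj_pow' h hi, mul_assoc, ← pow_add] at h1
    have h3 : j * (1 + i) = j + i * j := by ring
    rw [h3]
    exact mul_eq_left.mp h1
  have hno : ∀ k : ℤ, a ^ ((j : ℤ) + i * k) ≠ a ^ k := by
    intro k hk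
    have h1 : t * (b * a ^ k) * t⁻¹ = b * a ^ k := by
      have h2 : t * (b * a ^ k) * t⁻¹ = t * b * t⁻¹ * (t * a ^ k * t⁻¹) := by group
      rw [h2, hj, conj_zpow' h hi, mul_assoc, ← zpow_natCast, ← zpow_add, hk]
    have h3 := h.D_le v (mul_mem q.bR (Subgroup.zpow_mem _ q.aR k)) (mul_inv_eq_iff_eq_mul.mp h1)
    exact q.bA (by simpa using mul_mem h3 (inv_mem (Subgroup.zpow_mem _ (Subgroup.mem_zpowers a) k)))
  have hdvd : ∀ n : ℕ, a ^ n = 1 ↔ 2 ^ m ∣ n := fun n => by rw [← q.oa]; exact orderOf_dvd_iff_pow_eq_one.symm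
  obtain ⟨p, hp⟩ := hodd
  rcases Nat.even_or_odd' p with ⟨s, hs | hs⟩
  · -- `i ≡ 1 mod 4`
    left
    have hj2 : a ^ j * a ^ j = 1 := by
      rw [← pow_add, hdvd, ← two_mul]
      have h1 := (hdvd _).mp hrel
      have h2 : j * (1 + i) = 2 * j * (2 * s + 1) := by rw [hp, hs]; ring
      rw [h2] at h1
      refine Nat.Coprime.dvd_of_dvd_mul_right ?_ h1
      exact Nat.Coprime.pow_left _ ((odd_two_mul_add_one s).coprime_two_left)
    have hj1 : a ^ j ≠ 1 := by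
      intro h1
      apply hno 0
      rw [mul_zero, add_zero, zpow_natCast, h1, zpow_zero]
    have hjz : a ^ j = z := (q.sqA hj2).resolve_left hj1
    have hu : a ^ (4 * s) = 1 := by
      by_contra hu
      obtain ⟨n, hn⟩ := q.exists_pow_z (pow_mem q.aR _) hu
      apply hno n
      have h1 : ((j : ℤ) + i * n) = ((j + 4 * s * n : ℕ) : ℤ) + n := by rw [hp, hs]; push_cast; ring
      rw [h1, zpow_add, zpow_natCast, pow_add, pow_mul, hn, hjz, q.zz, one_mul]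
    have hta : t * a = a * t := by
      have h1 : i = 4 * s + 1 := by omega
      rw [h1, pow_succ, hu, one_mul] at hi
      exact mul_inv_eq_iff_eq_mul.mp hi
    have htr : t * r = r * t := by rw [q.hr]; exact (show Commute t a from hta).pow_right _
    refine ⟨hta, fun x hx hxt => h.D_le v hx hxt, r⁻¹ * t, ?_, by group, ?_⟩
    · refine mem_centK.mpr ⟨mul_mem (inv_mem (h.RS q.rR)) htS, fun x hx => q.comm_of ?_ ?_ hx⟩
      · have h1 : Commute (r⁻¹ * t) a := ((show Commute r a from q.ra).inv_left).mul_left hta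
        exact h1
      · have h1 : t * b = b * z * t := by rw [← hjz]; exact mul_inv_eq_iff_eq_mul.mp hj
        have h2 : b * r⁻¹ = r * b := by
          have h3 := q.br
          have h4 : b * r⁻¹ = r * (r⁻¹ * b) * r⁻¹ := by group
          rw [h4, ← h3]; group
        have h5 : r⁻¹ * z = r := by rw [← q.rr]; group
        calc r⁻¹ * t * b = r⁻¹ * (t * b) := by group
          _ = r⁻¹ * (b * z) * t := by rw [h1]; group
          _ = r⁻¹ * z * b * t := by rw [← q.bz]; group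
          _ = r * b * t := by rw [h5]
          _ = b * (r⁻¹ * t) := by rw [← h2]; group
    · have h1 : r⁻¹ * t * (r⁻¹ * t) = r⁻¹ * (t * r⁻¹) * t := by group
      have h2 : t * r⁻¹ = r⁻¹ * t := (show Commute t r from htr).inv_right
      rw [h1, h2]
      have h3 : r⁻¹ * (r⁻¹ * t) * t = (r * r)⁻¹ * (t * t) := by group
      rw [h3, htt, q.rr, q.zinv, mul_one]
  · -- `i ≡ 3 mod 4`
    right
    have hjodd : Odd j := by
      by_contra hje
      rw [Nat.not_odd_iff_even] at hje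
      obtain ⟨l, hl⟩ := hje
      obtain ⟨u, w, huw⟩ : IsCoprime ((2 * s + 1 : ℕ) : ℤ) ((2 ^ m : ℕ) : ℤ) :=
        Nat.isCoprime_iff_coprime.mpr (Nat.Coprime.pow_right _ ((odd_two_mul_add_one s).coprime_two_right))
      apply hno (-(l * u))
      have h1 : ((j : ℤ) + i * -(l * u)) = ((2 ^ m : ℕ) : ℤ) * (2 * (l * w)) + -(l * u) := by
        have h2 : (i : ℤ) = 2 * ((2 * s + 1 : ℕ) : ℤ) + 1 := by rw [hp, hs]; push_cast; ring
        have h3 : (j : ℤ) = 2 * (l : ℤ) := by rw [hl]; push_cast; ring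
        rw [h2, h3]
        linear_combination (-(2 * (l : ℤ))) * huw
      rw [h1, zpow_add, zpow_mul, zpow_natCast, q.a_two_pow, one_zpow, one_mul]
    have hinv : a ^ (1 + i) = 1 := by
      rw [hdvd]
      refine Nat.Coprime.dvd_of_dvd_mul_left ?_ ((hdvd _).mp hrel)
      exact Nat.Coprime.pow_left _ (hjodd.coprime_two_left)
    have hta : t * a * t⁻¹ = a⁻¹ := by
      rw [hi]
      rw [pow_add, pow_one] at hinv
      exact (inv_eq_of_mul_eq_one_right hinv).symm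
    refine ⟨mul_inv_eq_iff_eq_mul.mp hta, fun x hx hxt => ?_, j, hjodd, by rw [htinv]; rwa [htinv] at hj⟩
    obtain ⟨k, hk⟩ := h.D_le v hx hxt
    change a ^ k = x at hk
    have h1 : t * x * t⁻¹ = x⁻¹ := by rw [← hk, ← conj_zpow, hta, inv_zpow]
    have h2 : t * x * t⁻¹ = x := by rw [hxt]; group
    by_contra hcon
    push Not at hcon
    exact hcon.2 (q.uniq hx (by rw [h2] at h1; nth_rewrite 2 [h1]; group) hcon.1)

end Cfsg.Agent.H784.Q
end
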