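import Cfsg.Agent.H745.Q.CenFin
import Cfsg.Agent.H780.QTrans
set_option linter.all false

/-! # S5176, section 5.2: existence of the automorphisms of order three (helper745) -/
set_option autoImplicit false
set_option linter.unusedSectionVars false

open Cfsg Cfsg.FusionSystem Cfsg.Agent.H752 Cfsg.Agent.H784.SF Cfsg.Agent.H784.Q Cfsg.Agent.H745.Q

universe u

namespace Cfsg.Agent.H784.Q

variable {Ω : Type u} [Group Ω] {S : Subgroup Ω} [Finite S] {F : FusionSystem S} {R : Subgroup Ω} {a b z r : Ω} {m : ℕ}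
  {t c d k w : Ω} {β : Ω → Ω}

/-- `{x ∈ P | x⁻¹ f(x) ∈ N}` is a subgroup -/
theorem foc_sub {N P Q : Subgroup Ω} {f : Ω → Ω} (hf : Mp F P f)
    (hn : ∀ s ∈ S, ∀ x ∈ N, s * x * s⁻¹ ∈ N) (E : Set Ω) (hE : ∀ x ∈ E, x ∈ P ∧ x⁻¹ * f x ∈ N)
    (hQ : Q ≤ Subgroup.closure E) : ∀ x ∈ Q, x⁻¹ * f x ∈ N := by
  let T : Subgroup Ω :=
    { carrier := {x | x ∈ P ∧ x⁻¹ * f x ∈ N}
      one_mem' := ⟨one_mem _, by rw [hf.one, inv_one, mul_one]; exact one_mem _⟩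
      mul_mem' := fun {x y} hx hy => ⟨mul_mem hx.1 hy.1, by
        rw [hf.mul hx.1 hy.1]
        have h1 := hn y⁻¹ (S.inv_mem (hf.le hy.1)) _ hx.2
        have h2 := mul_mem h1 hy.2
        have e : (x * y)⁻¹ * (f x * f y) = y⁻¹ * (x⁻¹ * f x) * y⁻¹⁻¹ * (y⁻¹ * f y) := by group
        rw [e]; exact h2⟩
      inv_mem' := fun {x} hx => ⟨Subgroup.inv_mem _ hx.1, by
        rw [hf.inv hx.1]
        have h1 := hn x (hf.le hx.1) _ (N.inv_mem hx.2)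
        have e : x⁻¹⁻¹ * (f x)⁻¹ = x * (x⁻¹ * f x)⁻¹ * x⁻¹ := by group
        rw [e]; exact h1⟩ }
  have hT : Subgroup.closure E ≤ T := by
    rw [Subgroup.closure_le]
    exact fun x hx => hE x hx
  exact fun x hx => (hT (hQ hx)).2

/-- the class of maps with `x⁻¹ f(x) ∈ N` -/
theorem foc_closed {N : Subgroup Ω} (hn : ∀ s ∈ S, ∀ x ∈ N, s * x * s⁻¹ ∈ N)
    (hab : ∀ s ∈ S, ∀ s' ∈ S, s * s' * s⁻¹ * s'⁻¹ ∈ N) :
    Cls S (fun P f => Mp F P f ∧ ∀ x ∈ P, x⁻¹ * f x ∈ N) := by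
  refine ⟨fun P f g h1 h2 => ⟨h1.1.congr h2, fun x hx => by rw [h2 x hx]; exact h1.2 x hx⟩,
    fun P Q f h1 h2 => ⟨h1.1.res h2, fun x hx => h1.2 x (h2 hx)⟩, fun P Q f g h1 h2 h3 => ⟨h1.1.comp h2.1 h3, fun x hx => ?_⟩,
    fun P Q f g h1 h2 => ⟨h1.1.symm h2, fun y hy => ?_⟩, fun s hs => ⟨mp_conj F le_rfl hs, fun x hx => ?_⟩⟩
  · have h4 := mul_mem (h1.2 x hx) (h2.2 _ (h3 x hx))
    have e : x⁻¹ * g (f x) = x⁻¹ * f x * ((f x)⁻¹ * g (f x)) := by group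
    rw [e]; exact h4
  · obtain ⟨x, hx, h3, h4⟩ := h2 y hy
    rw [h4, ← h3]
    have h5 := N.inv_mem (h1.2 x hx)
    have e : (f x)⁻¹ * x = (x⁻¹ * f x)⁻¹ := by group
    rw [e]; exact h5
  · have h1 := hab x⁻¹ (S.inv_mem hx) s hs
    have e : x⁻¹ * (s * x * s⁻¹) = x⁻¹ * s * x⁻¹⁻¹ * s⁻¹ := by group
    rw [e]; exact h1

section
variable (h : CaseA8 F R a b z r m t c d k w β)
include h

theorem CaseA8.R_n : ∀ s ∈ S, ∀ x ∈ R, s * x * s⁻¹ ∈ R := h.sit.Rn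
theorem CaseA8.K_n : ∀ s ∈ S, ∀ x ∈ centralizerIn S R, s * x * s⁻¹ ∈ centralizerIn S R :=
  fun s hs x hx => h.tq.symm.R_conj hs hx

/-- the focal argument: `N ≥ M` normal in `S`, and the two automorphisms of order three preserve the cosets of `N`. -/
theorem CaseA8.foc_eq (hgen : ∀ S₁ : Subgroup Ω, S₁ ≤ S → (∀ s ∈ S, ∀ x ∈ S₁, s * x * s⁻¹ ∈ S₁) →
      (∀ s ∈ S, ∀ s' ∈ S, s * s' * s⁻¹ * s'⁻¹ ∈ S₁) →
      (∀ (P : Subgroup Ω) (f : Ω → Ω), Mp F P f → z ∈ P → f z = z → ∀ x ∈ P, x⁻¹ * f x ∈ S₁) →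
      (∀ t, CE F z t → t ≠ z → ∃ f : Ω → Ω, Mp F (CS S t) f ∧ f t = z ∧ ∀ x ∈ CS S t, x⁻¹ * f x ∈ S₁) → S₁ = S)
    {N : Subgroup Ω} (hN : N ≤ S) (hn : ∀ s ∈ S, ∀ x ∈ N, s * x * s⁻¹ ∈ N)
    (hM : Subgroup.zpowers a ⊔ Subgroup.zpowers d ≤ N)
    (hτ : ∀ τ : Ω → Ω, Mp F (Subgroup.closure {r, b} ⊔ centralizerIn S R) τ → τ r = b → τ b = r * b →
      (∀ x ∈ centralizerIn S R, τ x = x) → r⁻¹ * b ∈ N ∧ b⁻¹ * (r * b) ∈ N)
    (hσ : ∀ σ : Ω → Ω, Mp F (R ⊔ Subgroup.closure {c, w}) σ → σ c = w → σ w = c * w →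
      (∀ x ∈ R, σ x = x) → c⁻¹ * w ∈ N ∧ w⁻¹ * (c * w) ∈ N) : N = S := by
  have hab : ∀ s ∈ S, ∀ s' ∈ S, s * s' * s⁻¹ * s'⁻¹ ∈ N := fun s hs s' hs' => hM (h.toCaseA.comm_M hs hs')
  have hcl := foc_closed (F := F) hn hab
  have hC := h.cen_gen _ hcl.congr hcl.res hcl.comp hcl.inv hcl.conj
    (fun τ h1 h2 h3 h4 => by
      refine ⟨h1, foc_sub h1 hn ({r, b} ∪ (centralizerIn S R : Set Ω)) ?_ ?_⟩
      · obtain ⟨n1, n2⟩ := hτ τ h1 h2 h3 h4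
        rintro x ((rfl | rfl) | hx)
        · exact ⟨Subgroup.mem_sup_left (Subgroup.subset_closure (by simp)), by rw [h2]; exact n1⟩
        · exact ⟨Subgroup.mem_sup_left (Subgroup.subset_closure (by simp)), by rw [h3]; exact n2⟩
        · exact ⟨Subgroup.mem_sup_right hx, by rw [h4 x hx, inv_mul_cancel]; exact one_mem _⟩
      · rw [Subgroup.closure_union, Subgroup.closure_eq])
    (fun σ h1 h2 h3 h4 => by
      refine ⟨h1, foc_sub h1 hn ((R : Set Ω) ∪ {c, w}) ?_ ?_⟩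
      · obtain ⟨n1, n2⟩ := hσ σ h1 h2 h3 h4
        rintro x (hx | (rfl | rfl))
        · exact ⟨Subgroup.mem_sup_left hx, by rw [h4 x hx, inv_mul_cancel]; exact one_mem _⟩
        · exact ⟨Subgroup.mem_sup_right (Subgroup.subset_closure (by simp)), by rw [h2]; exact n1⟩
        · exact ⟨Subgroup.mem_sup_right (Subgroup.subset_closure (by simp)), by rw [h3]; exact n2⟩
      · rw [Subgroup.closure_union, Subgroup.closure_eq])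
  refine hgen N hN hn hab (fun P f hf hz hfz => (hC P f hf hz hfz).2) fun t₁ ht₁ hne => ?_
  obtain ⟨f, h1, h2, h3⟩ := h.toCaseA.trans_gen _ hcl.res hcl.comp hC
    ⟨h.v.mp, fun x hx => hM (h.toCaseA.β_M hx)⟩ t₁ ht₁ hne
  exact ⟨f, h1, h3, h2.2⟩

/-- `b ∉ K M` -/
theorem CaseA8.b_not : b ∉ centralizerIn S R ⊔ (Subgroup.zpowers a ⊔ Subgroup.zpowers d) := by
  intro hb
  have hkM : ∀ i : ℕ, k ^ i ∈ Subgroup.zpowers a ⊔ Subgroup.zpowers d := fun i => pow_mem h.kM i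
  have hnorm : centralizerIn S R ≤
      Subgroup.normalizer ((Subgroup.zpowers a ⊔ Subgroup.zpowers d : Subgroup Ω) : Set Ω) := by
    intro s hs
    rw [Subgroup.mem_normalizer_iff]
    intro x
    refine ⟨fun hx => h.toCaseA.M_conj hs.1 hx, fun hx => ?_⟩
    have h1 := h.toCaseA.M_conj (S.inv_mem hs.1) hx
    simpa [mul_assoc] using h1
  obtain ⟨κ, hκ, x, hx, hb'⟩ := (H759.mem_sup_of_normalizes hnorm).1 hb
  obtain ⟨i, rfl | rfl⟩ := h.Kgen κ hκ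
  · apply h.b_out
    rw [← hb']
    exact mul_mem (hkM i) hx
  · apply h.bw_out
    have h1 : b * w = w * w * (k ^ i * x) := by
      rw [← h.wb, ← hb']; group
    rw [h1, h.ww]
    exact mul_mem h.toCaseA.zM (mul_mem (hkM i) hx)

/-- `w ∉ R M` -/
theorem CaseA8.w_not : w ∉ R ⊔ (Subgroup.zpowers a ⊔ Subgroup.zpowers d) := by
  intro hb
  have haM : ∀ i : ℕ, a ^ i ∈ Subgroup.zpowers a ⊔ Subgroup.zpowers d := fun i => pow_mem h.toCaseA.aM i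
  have hnorm : R ≤
      Subgroup.normalizer ((Subgroup.zpowers a ⊔ Subgroup.zpowers d : Subgroup Ω) : Set Ω) := by
    intro s hs
    rw [Subgroup.mem_normalizer_iff]
    intro x
    refine ⟨fun hx => h.toCaseA.M_conj (h.sit.RS hs) hx, fun hx => ?_⟩
    have h1 := h.toCaseA.M_conj (S.inv_mem (h.sit.RS hs)) hx
    simpa [mul_assoc] using h1
  obtain ⟨ρ, hρ, x, hx, hb'⟩ := (H759.mem_sup_of_normalizes hnorm).1 hb
  obtain ⟨i, rfl | rfl⟩ := h.sit.qr.gen ρ hρ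
  · apply h.w_out
    rw [← hb']
    exact mul_mem (haM i) hx
  · apply h.bw_out
    have h1 : b * w = b * b * (a ^ i * x) := by
      rw [← hb']; group
    rw [h1, h.sit.qr.bb]
    exact mul_mem h.toCaseA.zM (mul_mem (haM i) hx)

theorem CaseA8.norm_sup {A : Subgroup Ω} (hA : ∀ s ∈ S, ∀ x ∈ A, s * x * s⁻¹ ∈ A) :
    ∀ s ∈ S, ∀ x ∈ A ⊔ (Subgroup.zpowers a ⊔ Subgroup.zpowers d), s * x * s⁻¹ ∈ A ⊔ (Subgroup.zpowers a ⊔ Subgroup.zpowers d) := by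
  intro s hs x hx
  let E : Subgroup Ω := (A ⊔ (Subgroup.zpowers a ⊔ Subgroup.zpowers d)).comap (MulAut.conj s).toMonoidHom
  have hE : A ⊔ (Subgroup.zpowers a ⊔ Subgroup.zpowers d) ≤ E := by
    refine sup_le (fun y hy => ?_) fun y hy => ?_
    · exact Subgroup.mem_comap.2 (Subgroup.mem_sup_left (hA s hs y hy))
    · exact Subgroup.mem_comap.2 (Subgroup.mem_sup_right (h.toCaseA.M_conj hs hy))
  exact hE hx

theorem CaseA8.exists_tau_of (hgen : ∀ S₁ : Subgroup Ω, S₁ ≤ S → (∀ s ∈ S, ∀ x ∈ S₁, s * x * s⁻¹ ∈ S₁) →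
      (∀ s ∈ S, ∀ s' ∈ S, s * s' * s⁻¹ * s'⁻¹ ∈ S₁) →
      (∀ (P : Subgroup Ω) (f : Ω → Ω), Mp F P f → z ∈ P → f z = z → ∀ x ∈ P, x⁻¹ * f x ∈ S₁) →
      (∀ t, CE F z t → t ≠ z → ∃ f : Ω → Ω, Mp F (CS S t) f ∧ f t = z ∧ ∀ x ∈ CS S t, x⁻¹ * f x ∈ S₁) → S₁ = S) :
    ∃ τ : Ω → Ω, Mp F (Subgroup.closure {r, b} ⊔ centralizerIn S R) τ ∧ τ r = b ∧ τ b = r * b ∧
      ∀ x ∈ centralizerIn S R, τ x = x := by
  by_contra hno
  push Not at hno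
  have hKS : centralizerIn S R ≤ S := inf_le_left
  have h1 := h.foc_eq hgen (N := centralizerIn S R ⊔ (Subgroup.zpowers a ⊔ Subgroup.zpowers d))
    (sup_le hKS h.toCaseA.MS) (h.norm_sup h.K_n) le_sup_right
    (fun τ h1 h2 h3 h4 => by
      obtain ⟨x, hx, h5⟩ := hno τ h1 h2 h3
      exact absurd (h4 x hx) h5)
    (fun σ _ _ _ _ => by
      have hc := h.cK
      have hw := h.wK
      exact ⟨Subgroup.mem_sup_left (mul_mem (Subgroup.inv_mem _ hc) hw),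
        Subgroup.mem_sup_left (mul_mem (Subgroup.inv_mem _ hw) (mul_mem hc hw))⟩)
  apply h.b_not
  rw [h1]
  exact h.sit.bS

theorem CaseA8.exists_sigma_of (hgen : ∀ S₁ : Subgroup Ω, S₁ ≤ S → (∀ s ∈ S, ∀ x ∈ S₁, s * x * s⁻¹ ∈ S₁) →
      (∀ s ∈ S, ∀ s' ∈ S, s * s' * s⁻¹ * s'⁻¹ ∈ S₁) →
      (∀ (P : Subgroup Ω) (f : Ω → Ω), Mp F P f → z ∈ P → f z = z → ∀ x ∈ P, x⁻¹ * f x ∈ S₁) →
      (∀ t, CE F z t → t ≠ z → ∃ f : Ω → Ω, Mp F (CS S t) f ∧ f t = z ∧ ∀ x ∈ CS S t, x⁻¹ * f x ∈ S₁) → S₁ = S) :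
    ∃ σ : Ω → Ω, Mp F (R ⊔ Subgroup.closure {c, w}) σ ∧ σ c = w ∧ σ w = c * w ∧
      ∀ x ∈ R, σ x = x := by
  by_contra hno
  push Not at hno
  have h1 := h.foc_eq hgen (N := R ⊔ (Subgroup.zpowers a ⊔ Subgroup.zpowers d))
    (sup_le h.sit.RS h.toCaseA.MS) (h.norm_sup h.R_n) le_sup_right
    (fun τ _ _ _ _ => by
      have hr := h.sit.qr.rR
      have hb := h.sit.qr.bR
      exact ⟨Subgroup.mem_sup_left (mul_mem (Subgroup.inv_mem _ hr) hb),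
        Subgroup.mem_sup_left (mul_mem (Subgroup.inv_mem _ hb) (mul_mem hr hb))⟩)
    (fun σ h1 h2 h3 h4 => by
      obtain ⟨x, hx, h5⟩ := hno σ h1 h2 h3
      exact absurd (h4 x hx) h5)
  apply h.w_not
  rw [h1]
  exact h.wK.1

end

end Cfsg.Agent.H784.Q
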