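import Cfsg.Agent.H745.Q.Tau
import Cfsg.Agent.H745.Q.Gener
set_option linter.all false

/-! # S5176, section 5.2: `NF.exists_tau`, `NF.exists_sigma` (helper745) -/
set_option autoImplicit false
set_option linter.unusedSectionVars false

open Cfsg Cfsg.FusionSystem Cfsg.Agent.H752 Cfsg.Agent.H784.SF Cfsg.Agent.H784.Q Cfsg.Agent.H745.Q

universe u

namespace Cfsg.Agent.H784.Q

variable {Ω : Type u} [Group Ω] {S : Subgroup Ω} [Finite S] {F : FusionSystem S} {R : Subgroup Ω} {a b z r : Ω} {m : ℕ}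
  {t c d k w : Ω} {β : Ω → Ω}

theorem CaseA8.exists_tau (h : CaseA8 F R a b z r m t c d k w β) :
    ∃ τ : Ω → Ω, Mp F (Subgroup.closure {r, b} ⊔ centralizerIn S R) τ ∧ τ r = b ∧ τ b = r * b ∧
      ∀ x ∈ centralizerIn S R, τ x = x :=
  h.exists_tau_of fun S₁ h₁ hn hab hc hT => sit_generation h.sit S₁ h₁ hn hab hc hT

theorem CaseA8.exists_sigma (h : CaseA8 F R a b z r m t c d k w β) :
    ∃ σ : Ω → Ω, Mp F (R ⊔ Subgroup.closure {c, w}) σ ∧ σ c = w ∧ σ w = c * w ∧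
      ∀ x ∈ R, σ x = x :=
  h.exists_sigma_of fun S₁ h₁ hn hab hc hT => sit_generation h.sit S₁ h₁ hn hab hc hT

theorem NF.exists_tau (h : NF F R a b z r m t c d k w β) :
    ∃ τ : Ω → Ω, Mp F (Subgroup.closure {r, b} ⊔ centralizerIn S R) τ ∧ τ r = b ∧ τ b = r * b ∧
      ∀ x ∈ centralizerIn S R, τ x = x :=
  h.toCaseA8.exists_tau

theorem NF.exists_sigma (h : NF F R a b z r m t c d k w β) :
    ∃ σ : Ω → Ω, Mp F (R ⊔ Subgroup.closure {c, w}) σ ∧ σ c = w ∧ σ w = c * w ∧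
      ∀ x ∈ R, σ x = x :=
  h.toCaseA8.exists_sigma

end Cfsg.Agent.H784.Q
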